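import Mathlib
import Groth.Prelude.Def_RedSub

set_option autoImplicit false
open scoped BigOperators

namespace Groth.Agent.Lib.Helper5.Inv

variable {idx M N : Type} [AddCommGroup M] [AddCommGroup N]
variable (P : RootPairing idx ℤ M N) (b : P.Base)

/-- elements of the closure are `ℕ`-combinations of simple roots. -/
theorem exists_nat_of_mem_closure (m : M)
    (hm : m ∈ AddSubmonoid.closure (P.root '' (b.support : Set idx))) :
    ∃ f : idx → ℕ, m = ∑ j ∈ b.support, f j • P.root j := by
  classical
  refine AddSubmonoid.closure_induction ?_ ⟨0, by simp⟩ ?_ hm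
  · rintro - ⟨j, hj, rfl⟩
    refine ⟨Pi.single j 1, ?_⟩
    rw [Finset.sum_eq_single_of_mem j hj]
    · simp
    · intro k _ hk
      simp [hk]
  · intro _ _ _ _ ⟨f, hf'⟩ ⟨g, hg'⟩
    exact ⟨f + g, by simp [hf', hg', add_smul, Finset.sum_add_distrib]⟩

theorem height_nonneg_of_mem (a : idx)
    (h : P.root a ∈ AddSubmonoid.closure (P.root '' (b.support : Set idx))) :
    0 ≤ b.height a := by
  obtain ⟨f, hf⟩ := exists_nat_of_mem_closure P b _ h
  have : P.root a = ∑ j ∈ b.support, ((fun j => (f j : ℤ)) j) • P.root j := by
    rw [hf]
    refine Finset.sum_congr rfl fun j _ => ?_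
    simp
  rw [RootPairing.Base.height_eq_sum this]
  exact Finset.sum_nonneg fun j _ => by simp

theorem height_nonpos_of_neg_mem (a : idx)
    (h : -P.root a ∈ AddSubmonoid.closure (P.root '' (b.support : Set idx))) :
    b.height a ≤ 0 := by
  obtain ⟨f, hf⟩ := exists_nat_of_mem_closure P b _ h
  have : P.root a = ∑ j ∈ b.support, ((fun j => -(f j : ℤ)) j) • P.root j := by
    rw [← neg_neg (P.root a), hf, ← Finset.sum_neg_distrib]
    refine Finset.sum_congr rfl fun j _ => ?_
    simp
  rw [RootPairing.Base.height_eq_sum this]
  exact Finset.sum_nonpos fun j _ => by simp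

theorem mem_posRoots_iff (a : idx) : a ∈ RedSub.posRoots P b ↔ b.IsPos a := by
  constructor
  · intro h
    rw [RootPairing.Base.isPos_iff']
    exact height_nonneg_of_mem P b a h
  · intro h
    rcases b.root_mem_or_neg_mem a with h1 | h1
    · exact h1
    · have := height_nonpos_of_neg_mem P b a h1
      rw [RootPairing.Base.isPos_iff] at h
      omega

theorem mem_negRoots_iff (a : idx) : a ∈ RedSub.negRoots P b ↔ ¬ b.IsPos a := by
  constructor
  · intro h hp
    have := height_nonpos_of_neg_mem P b a h
    rw [RootPairing.Base.isPos_iff] at hp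
    omega
  · intro h
    rcases b.root_mem_or_neg_mem a with h1 | h1
    · exact absurd ((mem_posRoots_iff P b a).mp h1) h
    · exact h1

/-- the linear action of a word. -/
noncomputable def wordLin (l : List idx) : M ≃ₗ[ℤ] M := (l.map P.reflection).prod

theorem root_wordPerm (l : List idx) (a : idx) :
    P.root (RedSub.wordPerm P l a) = wordLin P l (P.root a) := by
  induction l with
  | nil => simp [RedSub.wordPerm, wordLin]
  | cons i l ih =>
    have h1 : RedSub.wordPerm P (i :: l) = P.reflectionPerm i * RedSub.wordPerm P l := by
      simp [RedSub.wordPerm]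
    have h2 : wordLin P (i :: l) = P.reflection i * wordLin P l := by
      simp [wordLin]
    rw [h1, h2, Equiv.Perm.mul_apply, RootPairing.root_reflectionPerm, ih]
    rfl

theorem reflectionPerm_reflectionPerm (i j : idx) :
    P.reflectionPerm (P.reflectionPerm j i) =
      P.reflectionPerm j * P.reflectionPerm i * P.reflectionPerm j := by
  ext a
  apply P.root.injective
  simp only [Equiv.Perm.mul_apply, RootPairing.root_reflectionPerm]
  rw [RootPairing.reflection_reflectionPerm]
  rfl

theorem wordPerm_conj (l : List idx) (d : idx) :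
    P.reflectionPerm (RedSub.wordPerm P l d) * RedSub.wordPerm P l =
      RedSub.wordPerm P l * P.reflectionPerm d := by
  induction l with
  | nil => simp [RedSub.wordPerm]
  | cons i l ih =>
    have h1 : RedSub.wordPerm P (i :: l) = P.reflectionPerm i * RedSub.wordPerm P l := by
      simp [RedSub.wordPerm]
    rw [h1, Equiv.Perm.mul_apply, reflectionPerm_reflectionPerm]
    have hsq : P.reflectionPerm i * P.reflectionPerm i = 1 := by
      rw [← sq, RootPairing.reflectionPerm_sq]
    calc P.reflectionPerm i * P.reflectionPerm (RedSub.wordPerm P l d) * P.reflectionPerm i *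
          (P.reflectionPerm i * RedSub.wordPerm P l)
        = P.reflectionPerm i * P.reflectionPerm (RedSub.wordPerm P l d) *
          (P.reflectionPerm i * P.reflectionPerm i) * RedSub.wordPerm P l := by
          simp only [mul_assoc]
      _ = P.reflectionPerm i * (P.reflectionPerm (RedSub.wordPerm P l d) * RedSub.wordPerm P l) := by
          rw [hsq, mul_one, mul_assoc]
      _ = P.reflectionPerm i * RedSub.wordPerm P l * P.reflectionPerm d := by
          rw [ih, mul_assoc]

theorem height_reflectionPerm (d a : idx) :
    b.height (P.reflectionPerm d a) = b.height a - P.pairing a d * b.height d := by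
  have : P.root (P.reflectionPerm d a) = P.root a + (-P.pairing a d) • P.root d := by
    rw [RootPairing.root_reflectionPerm, RootPairing.reflection_apply_root]
    simp [sub_eq_add_neg]
  rw [b.height_add_zsmul this]
  simp
  ring

theorem height_wordPerm_reflectionPerm (l : List idx) (d a : idx) :
    b.height (RedSub.wordPerm P l (P.reflectionPerm d a)) =
      b.height (RedSub.wordPerm P l a) - P.pairing a d * b.height (RedSub.wordPerm P l d) := by
  have : P.root (RedSub.wordPerm P l (P.reflectionPerm d a)) =
      P.root (RedSub.wordPerm P l a) + (-P.pairing a d) • P.root (RedSub.wordPerm P l d) := by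
    rw [root_wordPerm, root_wordPerm, root_wordPerm, RootPairing.root_reflectionPerm,
      RootPairing.reflection_apply_root]
    simp [sub_eq_add_neg]
  rw [b.height_add_zsmul this]
  simp
  ring

/-- the inversion set of a permutation. -/
def invSet (w : Equiv.Perm idx) : Set idx := {a | b.IsPos a ∧ ¬ b.IsPos (w a)}

theorem forward [Finite idx] (l : List idx) (d : idx) (hd : b.IsPos d)
    (hwd : b.IsPos (RedSub.wordPerm P l d)) :
    (invSet P b (RedSub.wordPerm P l)).ncard <
      (invSet P b (RedSub.wordPerm P l * P.reflectionPerm d)).ncard := by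
  classical
  set w := RedSub.wordPerm P l with hw
  have hd0 : 0 < b.height d := hd
  have hwd0 : 0 < b.height (w d) := hwd
  let φ : idx → idx := fun a => if b.IsPos (P.reflectionPerm d a) then P.reflectionPerm d a else a
  have hsub : φ '' (invSet P b w) ⊆ invSet P b (w * P.reflectionPerm d) := by
    rintro _ ⟨a, ⟨ha1, ha2⟩, rfl⟩
    by_cases h : b.IsPos (P.reflectionPerm d a)
    · simp only [φ, if_pos h]
      refine ⟨h, ?_⟩
      rw [Equiv.Perm.mul_apply, RootPairing.reflectionPerm_self]
      exact ha2
    · simp only [φ, if_neg h]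
      refine ⟨ha1, ?_⟩
      rw [Equiv.Perm.mul_apply]
      rw [RootPairing.Base.isPos_iff] at h ha1 ha2 ⊢
      rw [height_reflectionPerm] at h
      rw [hw, height_wordPerm_reflectionPerm, ← hw]
      have hn : 0 < P.pairing a d := by
        by_contra hn
        have : P.pairing a d * b.height d ≤ 0 :=
          mul_nonpos_of_nonpos_of_nonneg (not_lt.mp hn) hd0.le
        omega
      have : 0 < P.pairing a d * b.height (w d) := mul_pos hn hwd0
      omega
  have hinj : Set.InjOn φ (invSet P b w) := by
    rintro a ⟨ha1, ha2⟩ a' ⟨ha1', ha2'⟩ h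
    by_cases h1 : b.IsPos (P.reflectionPerm d a) <;> by_cases h2 : b.IsPos (P.reflectionPerm d a')
    · simp only [φ, if_pos h1, if_pos h2] at h
      exact (P.reflectionPerm d).injective h
    · simp only [φ, if_pos h1, if_neg h2] at h
      exfalso
      apply h2
      rw [← h, RootPairing.reflectionPerm_self]
      exact ha1
    · simp only [φ, if_neg h1, if_pos h2] at h
      exfalso
      apply h1
      rw [h, RootPairing.reflectionPerm_self]
      exact ha1'
    · simp only [φ, if_neg h1, if_neg h2] at h
      exact h
  have hdmem : d ∈ invSet P b (w * P.reflectionPerm d) := by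
    refine ⟨hd, ?_⟩
    rw [Equiv.Perm.mul_apply, RootPairing.Base.isPos_iff, hw, height_wordPerm_reflectionPerm, ← hw]
    rw [RootPairing.pairing_same]
    omega
  have hdnot : d ∉ φ '' (invSet P b w) := by
    rintro ⟨a, ⟨ha1, ha2⟩, h⟩
    by_cases h1 : b.IsPos (P.reflectionPerm d a)
    · simp only [φ, if_pos h1] at h
      have : a = P.reflectionPerm d d := by
        have h' := congrArg (P.reflectionPerm d) h
        rw [RootPairing.reflectionPerm_self] at h'
        exact h'
      rw [this, RootPairing.Base.isPos_iff, height_reflectionPerm, RootPairing.pairing_same] at ha1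
      omega
    · simp only [φ, if_neg h1] at h
      rw [h] at ha2
      exact ha2 hwd
  have hss : φ '' (invSet P b w) ⊂ invSet P b (w * P.reflectionPerm d) :=
    ⟨hsub, fun h => hdnot (h hdmem)⟩
  calc (invSet P b w).ncard = (φ '' (invSet P b w)).ncard := (hinj.ncard_image).symm
    _ < _ := Set.ncard_lt_ncard hss (Set.toFinite _)

theorem main [Finite idx] (l : List idx) (c : idx) (hc : c ∈ RedSub.posRoots P b) :
    Set.ncard {a : idx | a ∈ RedSub.posRoots P b ∧ RedSub.wordPerm P l a ∈ RedSub.negRoots P b} <
        Set.ncard {a : idx | a ∈ RedSub.posRoots P b ∧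
          (P.reflectionPerm c * RedSub.wordPerm P l) a ∈ RedSub.negRoots P b} ↔
      (RedSub.wordPerm P l)⁻¹ c ∈ RedSub.posRoots P b := by
  have e1 : ∀ w : Equiv.Perm idx, {a : idx | a ∈ RedSub.posRoots P b ∧ w a ∈ RedSub.negRoots P b} =
      invSet P b w := by
    intro w
    ext a
    simp only [Set.mem_ofPred_eq, invSet, mem_posRoots_iff, mem_negRoots_iff]
  rw [e1, e1, mem_posRoots_iff]
  rw [mem_posRoots_iff] at hc
  set w := RedSub.wordPerm P l with hw
  set d := w⁻¹ c with hd
  have hwd : w d = c := by simp [hd]
  have hconj : P.reflectionPerm c * w = w * P.reflectionPerm d := by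
    rw [← hwd, hw, wordPerm_conj]
  constructor
  · intro hlt
    by_contra hneg
    -- apply forward to the word `c :: l`
    have h1 : RedSub.wordPerm P (c :: l) = P.reflectionPerm c * w := by
      simp [RedSub.wordPerm, hw]
    have hd' : b.IsPos (P.reflectionPerm d d) := by
      rw [RootPairing.Base.isPos_iff'] at hneg
      rw [RootPairing.Base.isPos_iff, height_reflectionPerm, RootPairing.pairing_same]
      have := b.height_ne_zero d
      omega
    have hw' : RedSub.wordPerm P (c :: l) (P.reflectionPerm d d) = c := by
      rw [h1, hconj, Equiv.Perm.mul_apply, RootPairing.reflectionPerm_self, hwd]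
    have := forward P b (c :: l) (P.reflectionPerm d d) hd' (by rw [hw']; exact hc)
    rw [h1] at this
    have h2 : P.reflectionPerm c * w * P.reflectionPerm (P.reflectionPerm d d) = w := by
      have h3 : P.reflectionPerm (P.reflectionPerm d d) = P.reflectionPerm d := by
        rw [reflectionPerm_reflectionPerm]
        have hsq : P.reflectionPerm d * P.reflectionPerm d = 1 := by
          rw [← sq, RootPairing.reflectionPerm_sq]
        rw [hsq, one_mul]
      rw [h3, hconj, mul_assoc]
      have hsq : P.reflectionPerm d * P.reflectionPerm d = 1 := by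
        rw [← sq, RootPairing.reflectionPerm_sq]
      rw [hsq, mul_one]
    rw [h2] at this
    omega
  · intro hpos
    rw [hconj]
    exact forward P b l d hpos (by rw [← hw, hwd]; exact hc)

end Groth.Agent.Lib.Helper5.Inv
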