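import Mathlib
import Groth.Agent.Lib.Helper5.Curve3.SmInt
import Groth.Agent.Lib.Helper8.SmoothNormal

set_option autoImplicit false
universe u

open AlgebraicGeometry CategoryTheory Limits

namespace Groth.Agent.H5.Inv

/-- global sections of an affine smooth connected scheme over a field form an integrally closed
domain. -/
theorem isIntegrallyClosed_top_of_smooth (k : Type u) [Field k] (Y : Scheme.{u}) [IsAffine Y]
    [IsIntegral Y] (g : Y ⟶ Spec (CommRingCat.of k)) [Smooth g] :
    IsIntegrallyClosed Γ(Y, ⊤) := by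
  have hV : IsAffineOpen (⊤ : Y.Opens) := isAffineOpen_top Y
  have hsm : (g.appLE ⊤ ⊤ le_top).hom.Smooth := g.smooth_appLE (isAffineOpen_top _) hV le_top
  let φ : k →+* Γ(Y, ⊤) :=
    (g.appLE ⊤ ⊤ le_top).hom.comp (Scheme.ΓSpecIso (CommRingCat.of k)).inv.hom
  have hφ : φ.Smooth := by
    refine RingHom.Smooth.comp (RingHom.Smooth.of_bijective ?_) hsm
    exact (ConcreteCategory.isIso_iff_bijective (Scheme.ΓSpecIso (CommRingCat.of k)).inv).mp
      inferInstance
  algebraize [φ]
  have : Algebra.Smooth k Γ(Y, ⊤) := hφ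
  exact Groth.Agent.H8.SmoothNormal.isIntegrallyClosed_of_smooth_field k Γ(Y, ⊤)

/-- a flat morphism of affine schemes with integral target: pulling back a nonzero global function
gives a nonzerodivisor. -/
theorem appTop_regular_of_flat {X Y : Scheme.{u}} [IsAffine X] [IsAffine Y] [IsIntegral Y]
    (f : X ⟶ Y) [Flat f] (q : Γ(Y, ⊤)) (hq : q ≠ 0) (t : Γ(X, ⊤))
    (ht : t * f.appTop.hom q = 0) : t = 0 := by
  have hfl : (f.appLE ⊤ ⊤ le_top).hom.Flat :=
    Flat.flat_appLE f (isAffineOpen_top Y) (isAffineOpen_top X) le_top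
  have he : f.appLE ⊤ ⊤ le_top = f.appTop := Scheme.Hom.appLE_eq_app f (U := ⊤)
  have hfl' : f.appTop.hom.Flat := by
    rwa [he] at hfl
  algebraize [f.appTop.hom]
  have : Module.Flat Γ(Y, ⊤) Γ(X, ⊤) := hfl'
  have hreg : IsSMulRegular Γ(Y, ⊤) q := by
    intro a b hab
    exact mul_left_cancel₀ hq hab
  have h2 : IsSMulRegular Γ(X, ⊤) q := hreg.of_flat
  have h3 : q • t = q • (0 : Γ(X, ⊤)) := by
    rw [smul_zero, Algebra.smul_def, mul_comm]
    exact ht
  exact h2 h3

end Groth.Agent.H5.Inv
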