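import Mathlib
import Groth.Prelude.Def_W4bk4grossh1223Act

set_option autoImplicit false
universe u
open CategoryTheory MonObj AlgebraicGeometry
open scoped TensorProduct

namespace Groth.Agent.H5.Inv

variable {k : Type u} [Field k]
variable {G H : Over (Spec (CommRingCat.of k))} [GrpObj G] [GrpObj H]
variable {A : Type u} [CommRing A] [Algebra k A]

/-- multiplication by `1 ⊗ q` on `B ⊗[k] A` is injective when `q` is a nonzerodivisor of `A`. -/
theorem one_tmul_mul_injective (B : Type u) [CommRing B] [Algebra k B] (q : A)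
    (hq : ∀ a : A, a * q = 0 → a = 0) (z : B ⊗[k] A) (hz : z * ((1 : B) ⊗ₜ[k] q) = 0) : z = 0 := by
  have hinj : Function.Injective (LinearMap.mulRight k q) := by
    rw [injective_iff_map_eq_zero]
    intro a ha
    exact hq a ha
  have h2 := Module.Flat.lTensor_preserves_injective_linearMap (M := B) (LinearMap.mulRight k q) hinj
  have key : ∀ w : B ⊗[k] A, LinearMap.lTensor B (LinearMap.mulRight k q) w =
      w * ((1 : B) ⊗ₜ[k] q) := by
    intro w
    induction w using TensorProduct.induction_on with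
    | zero => simp
    | tmul b a =>
      rw [LinearMap.lTensor_tmul, Algebra.TensorProduct.tmul_mul_tmul, _root_.mul_one]
      rfl
    | add x y hx hy => rw [map_add, hx, hy, add_mul]
  apply h2
  rw [map_zero, key, hz]

/-- if `a q = p` with `p`, `q ≠ 0` invariant (in a domain), then `a` is invariant. -/
theorem mem_fixedSubalgebra_of_mul [IsDomain A] (ρ : VecGrp.GMod G A) (hρ : ρ.IsMult) (i : H ⟶ G)
    (a p q : A) (hp : p ∈ ρ.fixedSubalgebra hρ i) (hq : q ∈ ρ.fixedSubalgebra hρ i) (hq0 : q ≠ 0)
    (h : a * q = p) : a ∈ ρ.fixedSubalgebra hρ i := by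
  intro B _ _ g
  have e : ((1 : B) ⊗ₜ[k] (a * q) : VecGrp.W k A B) = ((1 : B) ⊗ₜ[k] a) * ((1 : B) ⊗ₜ[k] q) := by
    rw [Algebra.TensorProduct.tmul_mul_tmul, _root_.one_mul]
  have h1 := hp B g
  rw [← h, e, (hρ B (g ≫ i)).1, hq B g] at h1
  have h2 : (ρ.ρ B (g ≫ i) ((1 : B) ⊗ₜ[k] a) - (1 : B) ⊗ₜ[k] a) * ((1 : B) ⊗ₜ[k] q) = 0 := by
    rw [sub_mul, h1, sub_self]
  have h3 := one_tmul_mul_injective B q (fun a' ha' => by
    rcases mul_eq_zero.mp ha' with h | h
    · exact h
    · exact absurd h hq0) _ h2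
  exact sub_eq_zero.mp h3

theorem isIntegrallyClosed_fixedSubalgebra [IsDomain A] [IsIntegrallyClosed A]
    (ρ : VecGrp.GMod G A) (hρ : ρ.IsMult) (i : H ⟶ G) :
    IsIntegrallyClosed ↥(ρ.fixedSubalgebra hρ i) := by
  set S := ρ.fixedSubalgebra hρ i with hS
  haveI : IsScalarTower S A (FractionRing A) := inferInstance
  have hinj : Function.Injective (algebraMap S (FractionRing A)) := by
    intro x y hxy
    apply Subtype.ext
    exact IsFractionRing.injective A (FractionRing A) hxy
  haveI : FaithfulSMul S (FractionRing A) := (faithfulSMul_iff_algebraMap_injective _ _).mpr hinj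
  letI := FractionRing.liftAlgebra S (FractionRing A)
  haveI := FractionRing.isScalarTower_liftAlgebra S (FractionRing A)
  rw [isIntegrallyClosed_iff (FractionRing S)]
  intro x hx
  have hx1 : IsIntegral S (algebraMap (FractionRing S) (FractionRing A) x) :=
    hx.map (IsScalarTower.toAlgHom S (FractionRing S) (FractionRing A))
  have hx2 : IsIntegral A (algebraMap (FractionRing S) (FractionRing A) x) := hx1.tower_top
  obtain ⟨a, ha⟩ := IsIntegrallyClosed.algebraMap_eq_of_integral hx2
  obtain ⟨p, q, hq, hpq⟩ := IsFractionRing.div_surjective (A := S) x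
  have hq0 : (q : S) ≠ 0 := nonZeroDivisors.ne_zero hq
  have hqK : algebraMap S (FractionRing S) q ≠ 0 := by
    intro h0
    exact hq0 (IsFractionRing.injective S (FractionRing S) (h0.trans (map_zero _).symm))
  have hxq : x * algebraMap S (FractionRing S) q = algebraMap S (FractionRing S) p := by
    rw [← hpq, div_mul_cancel₀ _ hqK]
  have h1 := congrArg (algebraMap (FractionRing S) (FractionRing A)) hxq
  rw [map_mul, ← ha, ← IsScalarTower.algebraMap_apply, ← IsScalarTower.algebraMap_apply] at h1
  have h2 : a * (q : A) = (p : A) := by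
    apply IsFractionRing.injective A (FractionRing A)
    rw [map_mul]
    exact h1
  have hqA : (q : A) ≠ 0 := fun h => hq0 (Subtype.ext h)
  have haS : a ∈ S := mem_fixedSubalgebra_of_mul ρ hρ i a p q p.2 q.2 hqA h2
  refine ⟨⟨a, haS⟩, ?_⟩
  have h3 : (⟨a, haS⟩ : S) * q = p := Subtype.ext h2
  rw [← hpq, eq_div_iff hqK, ← map_mul, h3]

end Groth.Agent.H5.Inv
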