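import Mathlib

set_option autoImplicit false
universe u

namespace Groth.Agent.H5.Inv

/-- a subring of an integrally closed domain which is closed under exact division is integrally
closed. -/
theorem isIntegrallyClosed_subring_of_div {A : Type*} [CommRing A] [IsDomain A]
    [IsIntegrallyClosed A] (S : Subring A)
    (hS : ∀ a p q : A, p ∈ S → q ∈ S → q ≠ 0 → a * q = p → a ∈ S) :
    IsIntegrallyClosed S := by
  haveI : IsScalarTower S A (FractionRing A) := inferInstance
  have hinj : Function.Injective (algebraMap S (FractionRing A)) := by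
    intro x y hxy
    apply Subtype.ext
    exact IsFractionRing.injective A (FractionRing A) hxy
  haveI : FaithfulSMul S (FractionRing A) := (faithfulSMul_iff_algebraMap_injective _ _).mpr hinj
  letI := FractionRing.liftAlgebra S (FractionRing A)
  haveI := FractionRing.isScalarTower_liftAlgebra S (FractionRing A)
  rw [isIntegrallyClosed_iff (FractionRing S)]
  intro x hx
  have hx1 : IsIntegral S (algebraMap (FractionRing S) (FractionRing A) x) :=
    hx.map (IsScalarTower.toAlgHom S (FractionRing S) (FractionRing A))
  have hx2 : IsIntegral A (algebraMap (FractionRing S) (FractionRing A) x) := hx1.tower_top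
  obtain ⟨a, ha⟩ := IsIntegrallyClosed.algebraMap_eq_of_integral hx2
  obtain ⟨p, q, hq, hpq⟩ := IsFractionRing.div_surjective (A := S) x
  have hq0 : (q : S) ≠ 0 := nonZeroDivisors.ne_zero hq
  have hqK : algebraMap S (FractionRing S) q ≠ 0 := by
    intro h0
    exact hq0 (IsFractionRing.injective S (FractionRing S) (h0.trans (map_zero _).symm))
  have hxq : x * algebraMap S (FractionRing S) q = algebraMap S (FractionRing S) p := by
    rw [← hpq, div_mul_cancel₀ _ hqK]
  have h1 := congrArg (algebraMap (FractionRing S) (FractionRing A)) hxq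
  rw [map_mul, ← ha, ← IsScalarTower.algebraMap_apply, ← IsScalarTower.algebraMap_apply] at h1
  have h2 : a * (q : A) = (p : A) := by
    apply IsFractionRing.injective A (FractionRing A)
    rw [map_mul]
    exact h1
  have hqA : (q : A) ≠ 0 := fun h => hq0 (Subtype.ext h)
  have haS : a ∈ S := hS a p q p.2 q.2 hqA h2
  refine ⟨⟨a, haS⟩, ?_⟩
  have h3 : (⟨a, haS⟩ : S) * q = p := Subtype.ext h2
  rw [← hpq, eq_div_iff hqK, ← map_mul, h3]

/-- the equalizer of two ring maps out of an integrally closed domain, one of which sends nonzero
elements to nonzerodivisors, is integrally closed. -/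
theorem isIntegrallyClosed_eqLocus {R T : Type*} [CommRing R] [IsDomain R] [IsIntegrallyClosed R]
    [CommRing T] (α β : R →+* T)
    (hβ : ∀ q : R, q ≠ 0 → ∀ t : T, t * β q = 0 → t = 0) :
    IsIntegrallyClosed (RingHom.eqLocus α β) := by
  apply isIntegrallyClosed_subring_of_div
  intro a p q hp hq hq0 h
  have hp' : α p = β p := hp
  have hq' : α q = β q := hq
  change α a = β a
  have e1 : α a * α q = α p := by rw [← map_mul, h]
  have e2 : β a * β q = β p := by rw [← map_mul, h]
  have h1 : (α a - β a) * β q = 0 := by
    rw [sub_mul, e2, ← hq', e1, hp', sub_self]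
  exact sub_eq_zero.mp (hβ q hq0 _ h1)

end Groth.Agent.H5.Inv
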