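import Mathlib
import Groth.Prelude.Def_W4bk4grossh111Obs
import Groth.Agent.Lib.Helper5.Inv.Sat
import Groth.Agent.Lib.Helper5.Inv.Geo

set_option autoImplicit false
universe u

open AlgebraicGeometry CategoryTheory Limits MonoidalCategory CartesianMonoidalCategory MonObj

namespace Groth.Agent.H5.Inv

theorem isIntegrallyClosed_rTransInv (k : Type u) [Field k]
    (G : Over (Spec (CommRingCat.of k))) [GrpObj G] [IsAffine G.left] [Smooth G.hom]
    (H : Over (Spec (CommRingCat.of k))) [Smooth H.hom] (i : H ⟶ G)
    [IsClosedImmersion i.left] [ConnectedSpace G.left] :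
    IsIntegrallyClosed ↥(_root_.AGF.rTransInv i) := by
  haveI : IsIntegral G.left := Groth.Agent.H5.Curve3.isIntegral_of_smooth_connected k G.hom
  haveI : IsIntegrallyClosed Γ(G.left, ⊤) := isIntegrallyClosed_top_of_smooth k G.left G.hom
  haveI : IsAffine H.left := isAffine_of_isAffineHom i.left
  haveI : IsAffine (G ⊗ H).left := by
    rw [Over.tensorObj_left]; infer_instance
  haveI : Flat (fst G H).left := by
    rw [Over.fst_left]; infer_instance
  unfold _root_.AGF.rTransInv
  apply isIntegrallyClosed_eqLocus
  intro q hq t ht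
  exact appTop_regular_of_flat (fst G H).left q hq t ht

end Groth.Agent.H5.Inv
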